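/-
Helper library of seat helper30: fixed-point congruence for an element of prime order acting by
conjugation on a subgroup it normalizes, and a product bound for two subgroups.
Namespace `Cfsg.Agent.Helper30`.
-/
import Mathlib.GroupTheory.PGroup
import Mathlib.GroupTheory.Index
import Mathlib.GroupTheory.OrderOfElement

set_option autoImplicit false

namespace Cfsg.Agent.Helper30

open Subgroup

variable {G : Type*} [Group G]

/-- If conjugation by `g` maps `K` into itself, so does conjugation by every natural power of `g`. -/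
theorem conj_pow_mem_of_conj_mem (K : Subgroup G) (g : G) (hK : ∀ k ∈ K, g * k * g⁻¹ ∈ K) (n : ℕ) :
    ∀ k ∈ K, g ^ n * k * (g ^ n)⁻¹ ∈ K := by
  induction n with
  | zero => intro k hk; simpa using hk
  | succ n ih =>
    intro k hk
    have h := hK _ (ih k hk)
    have e : g ^ (n + 1) * k * (g ^ (n + 1))⁻¹ = g * (g ^ n * k * (g ^ n)⁻¹) * g⁻¹ := by
      rw [pow_succ']; group
    rw [e]; exact h

/-- If conjugation by `g` maps `K` into itself (in a finite group), so does conjugation by every
element of the cyclic group generated by `g`. -/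
theorem conj_mem_of_mem_zpowers [Finite G] (K : Subgroup G) (g : G)
    (hK : ∀ k ∈ K, g * k * g⁻¹ ∈ K) {a : G} (ha : a ∈ zpowers g) :
    ∀ k ∈ K, a * k * a⁻¹ ∈ K := by
  obtain ⟨n, rfl⟩ := (mem_powers_iff_mem_zpowers).mpr ha
  exact conj_pow_mem_of_conj_mem K g hK n

/-- The conjugation action of the cyclic group `⟨g⟩` on a subgroup it normalizes. -/
@[instance_reducible] def zpowersConjAction [Finite G] (K : Subgroup G) (g : G)
    (hK : ∀ k ∈ K, g * k * g⁻¹ ∈ K) : MulAction ↥(zpowers g) ↥K where
  smul a k := ⟨(a : G) * k * (a : G)⁻¹, conj_mem_of_mem_zpowers K g hK a.2 k k.2⟩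
  one_smul k := Subtype.ext (by show (1 : G) * k * (1 : G)⁻¹ = k; group)
  mul_smul a b k := Subtype.ext (by
    show ((a : G) * b) * k * ((a : G) * b)⁻¹ = a * (b * k * (b : G)⁻¹) * (a : G)⁻¹
    group)

/-- Fixed-point congruence: if `g ^ p = 1` and `g` normalizes the subgroup `K` of a finite group,
then `|K| ≡ |C_K(g)|` modulo `p`. -/
theorem card_modEq_card_inf_centralizer [Finite G] (p : ℕ) [Fact p.Prime] (K : Subgroup G) (g : G)
    (hg : g ^ p = 1) (hK : ∀ k ∈ K, g * k * g⁻¹ ∈ K) :
    Nat.card ↥K ≡ Nat.card ↥(K ⊓ centralizer ({g} : Set G)) [MOD p] := by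
  have hP : IsPGroup p ↥(zpowers g) := by
    intro a
    refine ⟨1, ?_⟩
    obtain ⟨n, hn⟩ := (mem_powers_iff_mem_zpowers).mpr a.2
    apply Subtype.ext
    have hn' : g ^ n = (a : G) := hn
    rw [pow_one, Subgroup.coe_pow, ← hn', ← pow_mul, mul_comm, pow_mul, hg, one_pow]
    rfl
  let _ : MulAction ↥(zpowers g) ↥K := zpowersConjAction K g hK
  have h1 := hP.card_modEq_card_fixedPoints (↥K)
  have hsmul : ∀ (a : ↥(zpowers g)) (k : ↥K), ((a • k : ↥K) : G) = (a : G) * k * (a : G)⁻¹ :=
    fun a k => rfl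
  have e : MulAction.fixedPoints ↥(zpowers g) ↥K ≃ ↥(K ⊓ centralizer ({g} : Set G)) :=
    { toFun := fun x => ⟨(x.1 : G), Subgroup.mem_inf.mpr ⟨x.1.2, by
          rw [mem_centralizer_singleton_iff]
          have h := x.2 ⟨g, mem_zpowers g⟩
          have h' : g * (x.1 : G) * g⁻¹ = (x.1 : G) := by
            have := congrArg (Subtype.val) h
            rwa [hsmul] at this
          symm
          calc g * (x.1 : G) = g * (x.1 : G) * g⁻¹ * g := by group
            _ = (x.1 : G) * g := by rw [h']⟩⟩
      invFun := fun y => ⟨⟨(y : G), (Subgroup.mem_inf.mp y.2).1⟩, by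
          intro a
          apply Subtype.ext
          rw [hsmul]
          have hy : (y : G) ∈ centralizer ({g} : Set G) := (Subgroup.mem_inf.mp y.2).2
          have hz : zpowers g ≤ centralizer ({(y : G)} : Set G) := by
            rw [zpowers_le, mem_centralizer_singleton_iff]
            exact ((mem_centralizer_singleton_iff).mp hy).symm
          have ha := (mem_centralizer_singleton_iff).mp (hz a.2)
          show (a : G) * (y : G) * (a : G)⁻¹ = (y : G)
          rw [ha]; group⟩
      left_inv := fun x => rfl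
      right_inv := fun y => rfl }
  rw [Nat.card_congr e] at h1
  exact h1

/-- Product bound: `|A| · |B| ≤ |H| · |A ⊓ B|` for subgroups `A, B ≤ H` of a finite group. -/
theorem card_mul_card_le_of_le [Finite G] {A B H : Subgroup G} (hA : A ≤ H) (hB : B ≤ H) :
    Nat.card ↥A * Nat.card ↥B ≤ Nat.card ↥H * Nat.card ↥(A ⊓ B) := by
  have h1 : A.relIndex H * Nat.card ↥A = Nat.card ↥H := by
    have := Subgroup.relIndex_mul_relIndex (H := (⊥ : Subgroup G)) (K := A) (L := H) bot_le hA
    rw [Subgroup.relIndex_bot_left, Subgroup.relIndex_bot_left] at this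
    rw [mul_comm]; exact this
  have h2 : B.relIndex H * Nat.card ↥B = Nat.card ↥H := by
    have := Subgroup.relIndex_mul_relIndex (H := (⊥ : Subgroup G)) (K := B) (L := H) bot_le hB
    rw [Subgroup.relIndex_bot_left, Subgroup.relIndex_bot_left] at this
    rw [mul_comm]; exact this
  have h3 : (A ⊓ B).relIndex H * Nat.card ↥(A ⊓ B) = Nat.card ↥H := by
    have := Subgroup.relIndex_mul_relIndex (H := (⊥ : Subgroup G)) (K := A ⊓ B) (L := H) bot_le
      (inf_le_left.trans hA)
    rw [Subgroup.relIndex_bot_left, Subgroup.relIndex_bot_left] at this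
    rw [mul_comm]; exact this
  have h4 := Subgroup.relIndex_inf_le (H := A) (K := B) (L := H)
  have hpos : 0 < Nat.card ↥H := Nat.card_pos
  have hApos : 0 < A.relIndex H := by
    rcases Nat.eq_zero_or_pos (A.relIndex H) with h | h
    · rw [h, zero_mul] at h1; omega
    · exact h
  have hBpos : 0 < B.relIndex H := by
    rcases Nat.eq_zero_or_pos (B.relIndex H) with h | h
    · rw [h, zero_mul] at h2; omega
    · exact h
  -- (a * b) * (iA * iB) = |H|^2 and iAB * |A ⊓ B| = |H|, iAB ≤ iA * iB
  have h5 : Nat.card ↥A * Nat.card ↥B * (A.relIndex H * B.relIndex H) =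
      Nat.card ↥H * Nat.card ↥H := by
    calc Nat.card ↥A * Nat.card ↥B * (A.relIndex H * B.relIndex H)
        = (A.relIndex H * Nat.card ↥A) * (B.relIndex H * Nat.card ↥B) := by ring
      _ = Nat.card ↥H * Nat.card ↥H := by rw [h1, h2]
  have h6 : Nat.card ↥H * Nat.card ↥(A ⊓ B) * (A.relIndex H * B.relIndex H) ≥
      Nat.card ↥H * Nat.card ↥H := by
    calc Nat.card ↥H * Nat.card ↥(A ⊓ B) * (A.relIndex H * B.relIndex H)
        ≥ Nat.card ↥H * Nat.card ↥(A ⊓ B) * (A ⊓ B).relIndex H :=
          Nat.mul_le_mul_left _ h4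
      _ = Nat.card ↥H * ((A ⊓ B).relIndex H * Nat.card ↥(A ⊓ B)) := by ring
      _ = Nat.card ↥H * Nat.card ↥H := by rw [h3]
  have h7 : Nat.card ↥A * Nat.card ↥B * (A.relIndex H * B.relIndex H) ≤
      Nat.card ↥H * Nat.card ↥(A ⊓ B) * (A.relIndex H * B.relIndex H) := by
    rw [h5]; exact h6
  exact Nat.le_of_mul_le_mul_right h7 (Nat.mul_pos hApos hBpos)

end Cfsg.Agent.Helper30
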