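import Mathlib

/-!
CALL S5953 (helper90), half of piece BC (helper30): the multiplicity-free argument.  A block map
`diag(A 0, …, A (u-1), 1_e)` whose blocks are irreducible with pairwise different irreducible
annihilating polynomials (none vanishing at `1`): an invariant subspace containing no full block
lies in the fixed part `0 × F^e`.
-/

set_option autoImplicit false

namespace Cfsg.Agent.Helper30.HT5953

open Module Polynomial

section mf

variable {F : Type*} [Field F] {b u e : ℕ}

/-- the block map `(a, z) ↦ (A j a_j, z)` -/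
def bcMap (A : Fin u → Matrix (Fin b) (Fin b) F) :
    ((Fin u → (Fin b → F)) × (Fin e → F)) →ₗ[F] ((Fin u → (Fin b → F)) × (Fin e → F)) where
  toFun w := (fun j => (A j).mulVec (w.1 j), w.2)
  map_add' := by
    intro w w'
    refine Prod.ext ?_ rfl
    funext j
    show (A j).mulVec (w.1 j + w'.1 j) = (A j).mulVec (w.1 j) + (A j).mulVec (w'.1 j)
    exact Matrix.mulVec_add _ _ _
  map_smul' := by
    intro c w
    refine Prod.ext ?_ rfl
    funext j
    show (A j).mulVec (c • w.1 j) = c • (A j).mulVec (w.1 j)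
    exact Matrix.mulVec_smul _ _ _

theorem bcMap_apply (A : Fin u → Matrix (Fin b) (Fin b) F)
    (w : (Fin u → (Fin b → F)) × (Fin e → F)) :
    bcMap A w = (fun j => (A j).mulVec (w.1 j), w.2) := rfl

theorem bcMap_pow (A : Fin u → Matrix (Fin b) (Fin b) F) (n : ℕ)
    (w : (Fin u → (Fin b → F)) × (Fin e → F)) :
    (bcMap A ^ n) w = (fun j => (A j ^ n).mulVec (w.1 j), w.2) := by
  induction n generalizing w with
  | zero =>
    refine Prod.ext ?_ rfl
    funext j
    simp
  | succ k ih =>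
    rw [pow_succ, Module.End.mul_apply, ih, bcMap_apply]
    refine Prod.ext ?_ rfl
    funext j
    show (A j ^ k).mulVec ((A j).mulVec (w.1 j)) = (A j ^ (k + 1)).mulVec (w.1 j)
    rw [Matrix.mulVec_mulVec, ← pow_succ]

theorem bc_aeval (A : Fin u → Matrix (Fin b) (Fin b) F) (g : F[X])
    (w : (Fin u → (Fin b → F)) × (Fin e → F)) :
    aeval (bcMap A) g w = (fun j => (aeval (A j) g).mulVec (w.1 j), g.eval 1 • w.2) := by
  induction g using Polynomial.induction_on' with
  | add p q hp hq =>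
    rw [map_add, LinearMap.add_apply, hp, hq]
    refine Prod.ext ?_ ?_
    · funext j
      show (aeval (A j) p).mulVec (w.1 j) + (aeval (A j) q).mulVec (w.1 j)
        = (aeval (A j) (p + q)).mulVec (w.1 j)
      rw [map_add, Matrix.add_mulVec]
    · show p.eval 1 • w.2 + q.eval 1 • w.2 = (p + q).eval 1 • w.2
      rw [eval_add, add_smul]
  | monomial n a =>
    rw [aeval_monomial, Module.End.mul_apply, Module.algebraMap_end_apply, bcMap_pow]
    refine Prod.ext ?_ ?_
    · funext j
      show a • (A j ^ n).mulVec (w.1 j) = (aeval (A j) (monomial n a)).mulVec (w.1 j)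
      rw [aeval_monomial, ← Algebra.smul_def, Matrix.smul_mulVec]
    · show a • w.2 = (monomial n a).eval 1 • w.2
      rw [eval_monomial, one_pow, mul_one]

theorem bc_aeval_mem (f : ((Fin u → (Fin b → F)) × (Fin e → F)) →ₗ[F]
      ((Fin u → (Fin b → F)) × (Fin e → F)))
    (W : Submodule F ((Fin u → (Fin b → F)) × (Fin e → F))) (hf : ∀ w ∈ W, f w ∈ W) (Q : F[X])
    {v : (Fin u → (Fin b → F)) × (Fin e → F)} (hv : v ∈ W) : aeval f Q v ∈ W := by
  have hpow : ∀ k : ℕ, ∀ w ∈ W, (f ^ k) w ∈ W := by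
    intro k
    induction k with
    | zero => intro w hw; simpa using hw
    | succ k ih => intro w hw; rw [pow_succ, Module.End.mul_apply]; exact ih _ (hf w hw)
  induction Q using Polynomial.induction_on' with
  | add p q hp hq => rw [map_add, LinearMap.add_apply]; exact W.add_mem hp hq
  | monomial k a =>
    rw [aeval_monomial, Module.End.mul_apply, Module.algebraMap_end_apply]
    exact W.smul_mem _ (hpow k v hv)

/-- the CRT idempotent polynomial of the `j`-th block -/
theorem bc_proj (A : Fin u → Matrix (Fin b) (Fin b) F) (P : Fin u → F[X])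
    (hirr : ∀ j, Irreducible (P j)) (hP : ∀ j, aeval (A j) (P j) = 0)
    (hne : ∀ j l, j ≠ l → ¬ P j ∣ P l) (h1 : ∀ j, (P j).eval 1 ≠ 0) (j : Fin u) :
    ∃ G : F[X], aeval (A j) G = 1 ∧ (∀ l, l ≠ j → aeval (A l) G = 0) ∧ G.eval 1 = 0 := by
  classical
  obtain ⟨Q, hQ⟩ : ∃ Q : F[X], Q = (X - C 1) * ∏ l ∈ Finset.univ.erase j, P l := ⟨_, rfl⟩
  have hcop : IsCoprime (P j) Q := by
    rw [(hirr j).coprime_iff_not_dvd, hQ]
    intro hdvd
    rcases (hirr j).prime.dvd_or_dvd hdvd with h | h
    · obtain ⟨c, hc⟩ := h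
      have hc1 : c.eval 1 = 0 := by
        have := congrArg (Polynomial.eval 1) hc
        rw [eval_mul, eval_sub, eval_X, eval_C, sub_self] at this
        exact (mul_eq_zero.mp this.symm).resolve_left (h1 j)
      obtain ⟨c', hc'⟩ := dvd_iff_isRoot.mpr hc1
      have hX : (X - C (1 : F)) ≠ 0 := X_sub_C_ne_zero 1
      have h2 : (X - C (1 : F)) * 1 = (X - C 1) * (P j * c') := by
        rw [mul_one]
        nth_rewrite 1 [hc, hc']
        ring
      have h3 : (1 : F[X]) = P j * c' := mul_left_cancel₀ hX h2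
      exact (hirr j).not_isUnit (IsUnit.of_mul_eq_one c' h3.symm)
    · obtain ⟨l, hl, hdl⟩ := (hirr j).prime.exists_mem_finset_dvd h
      exact hne j l (Ne.symm (Finset.ne_of_mem_erase hl)) hdl
  obtain ⟨a, c, hac⟩ := hcop
  refine ⟨c * Q, ?_, ?_, ?_⟩
  · have := congrArg (aeval (A j)) hac
    rw [map_add, map_mul, hP j, mul_zero, zero_add, map_one] at this
    exact this
  · intro l hl
    have hdvd : P l ∣ Q := by
      rw [hQ]
      exact Dvd.dvd.mul_left
        (Finset.dvd_prod_of_mem P (Finset.mem_erase.mpr ⟨hl, Finset.mem_univ l⟩)) _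
    obtain ⟨R, hR⟩ := hdvd
    rw [hR, mul_comm (P l) R, ← mul_assoc, map_mul, hP l, mul_zero]
  · rw [eval_mul, hQ, eval_mul, eval_sub, eval_X, eval_C, sub_self, zero_mul, mul_zero]

/-- **multiplicity-free argument** -/
theorem bc_multfree (A : Fin u → Matrix (Fin b) (Fin b) F)
    (P : Fin u → F[X]) (hirr : ∀ j, Irreducible (P j)) (hP : ∀ j, aeval (A j) (P j) = 0)
    (hne : ∀ j l, j ≠ l → ¬ P j ∣ P l) (h1 : ∀ j, (P j).eval 1 ≠ 0)
    (hA : ∀ j (S : Submodule F (Fin b → F)), (∀ v ∈ S, (A j).mulVec v ∈ S) → S = ⊥ ∨ S = ⊤)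
    (W : Submodule F ((Fin u → (Fin b → F)) × (Fin e → F)))
    (hW : ∀ w ∈ W,
      ((fun j => (A j).mulVec (w.1 j), w.2) : (Fin u → (Fin b → F)) × (Fin e → F)) ∈ W)
    (hnot : ∀ j, ∃ v : Fin b → F,
      ((Pi.single j v, 0) : (Fin u → (Fin b → F)) × (Fin e → F)) ∉ W) :
    ∀ w ∈ W, w.1 = 0 := by
  classical
  have hf : ∀ w ∈ W, bcMap A w ∈ W := fun w hw => hW w hw
  have key : ∀ w ∈ W, ∀ j,
      ((Pi.single j (w.1 j), 0) : (Fin u → (Fin b → F)) × (Fin e → F)) ∈ W := by
    intro w hw j
    obtain ⟨G, hG1, hG0, hGe⟩ := bc_proj A P hirr hP hne h1 j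
    have hmem := bc_aeval_mem (bcMap A) W hf G hw
    rw [bc_aeval] at hmem
    have heq : ((fun l => (aeval (A l) G).mulVec (w.1 l), G.eval 1 • w.2) :
        (Fin u → (Fin b → F)) × (Fin e → F)) = (Pi.single j (w.1 j), 0) := by
      refine Prod.ext ?_ ?_
      · funext l
        by_cases hl : l = j
        · subst hl
          show (aeval (A l) G).mulVec (w.1 l) = (Pi.single l (w.1 l) : Fin u → (Fin b → F)) l
          rw [hG1, Matrix.one_mulVec, Pi.single_eq_same]
        · show (aeval (A l) G).mulVec (w.1 l) = (Pi.single j (w.1 j) : Fin u → (Fin b → F)) l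
          rw [hG0 l hl, Matrix.zero_mulVec, Pi.single_eq_of_ne hl]
      · show G.eval 1 • w.2 = 0
        rw [hGe, zero_smul]
    rw [heq] at hmem
    exact hmem
  intro w hw
  funext j
  obtain ⟨ι, hι⟩ : ∃ ι : (Fin b → F) →ₗ[F] (Fin u → (Fin b → F)) × (Fin e → F),
      ∀ v, ι v = (Pi.single j v, 0) :=
    ⟨(LinearMap.inl F _ _).comp (LinearMap.single F (fun _ : Fin u => Fin b → F) j),
      fun v => rfl⟩
  have hS : ∀ v ∈ W.comap ι, (A j).mulVec v ∈ W.comap ι := by
    intro v hv
    rw [Submodule.mem_comap, hι] at hv ⊢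
    have h2 := hW _ hv
    have heq : ((fun l => (A l).mulVec ((Pi.single j v : Fin u → (Fin b → F)) l), (0 : Fin e → F)) :
        (Fin u → (Fin b → F)) × (Fin e → F)) = (Pi.single j ((A j).mulVec v), 0) := by
      refine Prod.ext ?_ rfl
      funext l
      by_cases hl : l = j
      · subst hl
        show (A l).mulVec ((Pi.single l v : Fin u → (Fin b → F)) l)
          = (Pi.single l ((A l).mulVec v) : Fin u → (Fin b → F)) l
        rw [Pi.single_eq_same, Pi.single_eq_same]
      · show (A l).mulVec ((Pi.single j v : Fin u → (Fin b → F)) l)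
          = (Pi.single j ((A j).mulVec v) : Fin u → (Fin b → F)) l
        rw [Pi.single_eq_of_ne hl, Pi.single_eq_of_ne hl, Matrix.mulVec_zero]
    rw [← heq]
    exact h2
  have hwj : w.1 j ∈ W.comap ι := by
    rw [Submodule.mem_comap, hι]
    exact key w hw j
  rcases hA j (W.comap ι) hS with h | h
  · rw [h, Submodule.mem_bot] at hwj
    exact hwj
  · obtain ⟨v, hv⟩ := hnot j
    exfalso
    apply hv
    have hv' : v ∈ W.comap ι := by rw [h]; trivial
    rw [Submodule.mem_comap, hι] at hv'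
    exact hv'

end mf

end Cfsg.Agent.Helper30.HT5953
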